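import Mathlib

/-!
# Cardinalities of points and residue fields of schemes of finite type
-/

set_option autoImplicit false
set_option linter.style.haveILetI false

universe u

open Cardinal AlgebraicGeometry CategoryTheory

namespace Groth.Agent.H7GeomGen

theorem mk_le_of_finiteType (R B : Type u) [CommRing R] [CommRing B] [Algebra R B] [Algebra.FiniteType R B] :
    #B ≤ max #R ℵ₀ := by
  obtain ⟨n, f, hf⟩ := Algebra.FiniteType.iff_quotient_mvPolynomial''.1 ‹Algebra.FiniteType R B›
  refine (mk_le_of_surjective hf).trans ?_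
  refine MvPolynomial.cardinalMk_le_max_lift.trans ?_
  refine max_le (max_le (by simp) ?_) (le_max_right _ _)
  exact le_trans (by simp [mk_le_aleph0]) (le_max_right _ _)

theorem countable_primeSpectrum (B : Type u) [CommRing B] [IsNoetherianRing B] [Countable B] :
    Countable (PrimeSpectrum B) := by
  haveI : Countable (Ideal B) := Function.Surjective.countable (f := fun s : Finset B => Ideal.span (s : Set B))
    fun I => (IsNoetherian.noetherian I : I.FG)
  exact Function.Injective.countable (f := PrimeSpectrum.asIdeal) fun _ _ h => PrimeSpectrum.ext h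

section

variable {R : Type u} [CommRing R] {X : Scheme.{u}} (q : X ⟶ Spec (CommRingCat.of R)) [LocallyOfFiniteType q]

include q

theorem mk_gamma_le {U : X.Opens} (hU : IsAffineOpen U) : #Γ(X, U) ≤ max #R ℵ₀ := by
  have h : ((Scheme.ΓSpecIso (CommRingCat.of R)).inv ≫ q.appLE ⊤ U le_top).hom.FiniteType := by
    rw [CommRingCat.hom_comp]
    exact (q.finiteType_appLE (isAffineOpen_top _) hU le_top).comp
      (RingHom.FiniteType.of_surjective _ (ConcreteCategory.bijective_of_isIso (Scheme.ΓSpecIso (CommRingCat.of R)).inv).2)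
  letI := ((Scheme.ΓSpecIso (CommRingCat.of R)).inv ≫ q.appLE ⊤ U le_top).hom.toAlgebra
  haveI : Algebra.FiniteType R Γ(X, U) := h
  exact mk_le_of_finiteType R Γ(X, U)

theorem mk_residueField_le (x : X) : #(X.residueField x) ≤ max #R ℵ₀ := by
  obtain ⟨U, hU, hxU, -⟩ := exists_isAffineOpen_mem_and_subset (show x ∈ (⊤ : X.Opens) from trivial)
  refine (mk_le_of_surjective (f := (X.residue x).hom) IsLocalRing.residue_surjective).trans ?_
  letI := (X.presheaf.germ U x hxU).hom.toAlgebra
  haveI := hU.isLocalization_stalk ⟨x, hxU⟩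
  refine (mk_le_of_surjective (f := fun p : Γ(X, U) × (hU.primeIdealOf ⟨x, hxU⟩).asIdeal.primeCompl =>
    IsLocalization.mk' (X.presheaf.stalk x) p.1 p.2) fun z => ?_).trans ?_
  · obtain ⟨⟨a, s⟩, h⟩ := IsLocalization.mk'_surjective (hU.primeIdealOf ⟨x, hxU⟩).asIdeal.primeCompl z
    exact ⟨(a, s), h⟩
  rw [mk_prod, lift_id, lift_id]
  refine (mul_le_max _ _).trans (max_le (max_le (mk_gamma_le q hU) ?_) (le_max_right _ _))
  exact (mk_subtype_le _).trans (mk_gamma_le q hU)

theorem countable_residueField [Countable R] (x : X) : Countable (X.residueField x) :=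
  Cardinal.mk_le_aleph0_iff.1 ((mk_residueField_le q x).trans (max_le (mk_le_aleph0) le_rfl))

theorem countable_points [Countable R] [IsNoetherianRing R] [QuasiCompact q] : Countable X := by
  haveI : CompactSpace X := QuasiCompact.compactSpace_of_compactSpace q
  haveI : IsLocallyNoetherian X := LocallyOfFiniteType.isLocallyNoetherian q
  obtain ⟨s, hs⟩ : ∃ s : Finset X.affineOpens, ∀ x : X, ∃ U ∈ s, x ∈ U.1 := by
    choose U hU hxU _ using fun x : X => exists_isAffineOpen_mem_and_subset (show x ∈ (⊤ : X.Opens) from trivial)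
    obtain ⟨t, ht⟩ := isCompact_univ.elim_finite_subcover (fun x : X => (U x : Set X)) (fun x => (U x).isOpen)
      fun x _ => Set.mem_iUnion.2 ⟨x, hxU x⟩
    classical
    refine ⟨t.image fun x => ⟨U x, hU x⟩, fun x => ?_⟩
    obtain ⟨y, hy, hxy⟩ : ∃ y ∈ t, x ∈ U y := by simpa using ht (Set.mem_univ x)
    exact ⟨_, Finset.mem_image_of_mem _ hy, hxy⟩
  haveI : ∀ U : X.affineOpens, Countable U.1 := fun U => by
    haveI : IsNoetherianRing Γ(X, U.1) := IsLocallyNoetherian.component_noetherian U
    haveI : Countable Γ(X, U.1) := Cardinal.mk_le_aleph0_iff.1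
      ((mk_gamma_le q U.2).trans (max_le (mk_le_aleph0) le_rfl))
    haveI := countable_primeSpectrum Γ(X, U.1)
    exact Function.Injective.countable (f := fun x => U.2.primeIdealOf x) fun a b h => Subtype.ext <| by
      have := congrArg U.2.fromSpec h
      simpa [IsAffineOpen.fromSpec_primeIdealOf] using this
  haveI : ∀ U : s, Countable ↥(U.1.1 : X.Opens) := fun U => inferInstanceAs (Countable U.1.1)
  refine Function.Surjective.countable (f := fun p : (U : s) × ↥(U.1.1 : X.Opens) => p.2.1) fun x => ?_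
  obtain ⟨U, hU, hx⟩ := hs x
  exact ⟨⟨⟨U, hU⟩, ⟨x, hx⟩⟩, rfl⟩

end

/-- Isomorphisms of uncountable algebraically closed fields over a countable field. -/
theorem exists_ringEquiv_comp {F K L : Type u} [Field F] [Field K] [Field L] [IsAlgClosed K] [IsAlgClosed L]
    [Countable F] (a : F →+* K) (b : F →+* L) (hK : ℵ₀ < #K) (h : #K = #L) :
    ∃ e : K ≃+* L, e.toRingHom.comp a = b := by
  letI := a.toAlgebra
  letI := b.toAlgebra
  obtain ⟨s, hs⟩ := exists_isTranscendenceBasis F K
  obtain ⟨t, ht⟩ := exists_isTranscendenceBasis F L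
  have hst : #s = #t := by
    rw [← IsAlgClosed.cardinal_eq_cardinal_transcendence_basis_of_aleph0_lt' _ hs mk_le_aleph0 hK,
      ← IsAlgClosed.cardinal_eq_cardinal_transcendence_basis_of_aleph0_lt' _ ht mk_le_aleph0 (h ▸ hK), h]
  obtain ⟨i⟩ := Cardinal.eq.1 hst
  haveI := IsAlgClosed.isAlgClosure_of_transcendence_basis _ hs
  haveI := IsAlgClosed.isAlgClosure_of_transcendence_basis _ ht
  let e₀ : Algebra.adjoin F (Set.range ((↑) : s → K)) ≃ₐ[F] Algebra.adjoin F (Set.range ((↑) : t → L)) :=
    hs.1.aevalEquiv.symm.trans ((MvPolynomial.renameEquiv F i).trans ht.1.aevalEquiv)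
  refine ⟨IsAlgClosure.equivOfEquiv K L e₀.toRingEquiv, RingHom.ext fun x => ?_⟩
  have h1 := IsAlgClosure.equivOfEquiv_algebraMap K L e₀.toRingEquiv (algebraMap F _ x)
  rw [show e₀.toRingEquiv (algebraMap F _ x) = algebraMap F _ x from e₀.commutes x] at h1
  exact h1

end Groth.Agent.H7GeomGen
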