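import Groth.Agent.H7GeomGen.Count
import Groth.Agent.H7Lim.FPDescent.Noetherian
import Groth.Agent.S9218

/-!
# Fibres at very general points are isomorphic to the geometric generic fibre
-/

set_option autoImplicit false
set_option linter.style.haveILetI false
set_option backward.isDefEq.respectTransparency false

universe u

open Cardinal CategoryTheory CategoryTheory.Limits AlgebraicGeometry Opposite

namespace Groth.Agent.H7GeomGen

open Groth.Agent.H7Lim Groth.Agent.H7Lim.FPDescent

/-- A morphism of schemes of finite type over a field is a base change of a morphism between countable schemes. -/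
theorem exists_countable_model {k : Type u} [Field k] {T X : Scheme.{u}} (sT : T ⟶ Spec (CommRingCat.of k))
    [LocallyOfFiniteType sT] [QuasiCompact sT] (f : X ⟶ T) [LocallyOfFiniteType f] [QuasiCompact f] :
    ∃ (T₀ X₀ : Scheme.{u}) (f₀ : X₀ ⟶ T₀) (g : X ⟶ X₀) (h : T ⟶ T₀), IsPullback g f f₀ h ∧ Countable T₀ ∧
      ∀ τ : T₀, Countable (T₀.residueField τ) := by
  haveI : IsLocallyNoetherian T := LocallyOfFiniteType.isLocallyNoetherian sT
  haveI : IsLocallyNoetherian X := LocallyOfFiniteType.isLocallyNoetherian f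
  let c : Cone ((subringFunctor k).op ⋙ Scheme.Spec) := Scheme.Spec.mapCone (subringCocone k).op
  have hc : IsLimit c := isLimitOfPreserves Scheme.Spec (subringIsColimit k).op
  haveI : ∀ (i j : (Finset k)ᵒᵖ) (φ : i ⟶ j), IsAffineHom (((subringFunctor k).op ⋙ Scheme.Spec).map φ) := fun i j φ =>
    inferInstanceAs (IsAffineHom (Spec.map _))
  haveI : ∀ i, CompactSpace (((subringFunctor k).op ⋙ Scheme.Spec).obj i) := fun i =>
    inferInstanceAs (CompactSpace ↥(Spec _))
  haveI : ∀ i, QuasiSeparatedSpace (((subringFunctor k).op ⋙ Scheme.Spec).obj i) := fun i =>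
    inferInstanceAs (QuasiSeparatedSpace ↥(Spec _))
  haveI : Nonempty (Finset k) := ⟨∅⟩
  let sT' : T ⟶ c.pt := sT
  haveI : LocallyOfFinitePresentation sT' := inferInstanceAs (LocallyOfFinitePresentation sT)
  haveI : QuasiCompact sT' := ‹QuasiCompact sT›
  haveI : QuasiSeparated sT' := inferInstanceAs (QuasiSeparated sT)
  let sX : X ⟶ c.pt := f ≫ sT
  haveI : LocallyOfFinitePresentation sX := inferInstanceAs (LocallyOfFinitePresentation (f ≫ sT))
  haveI : QuasiCompact sX := inferInstanceAs (QuasiCompact (f ≫ sT))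
  haveI : QuasiSeparated sX := inferInstanceAs (QuasiSeparated (f ≫ sT))
  obtain ⟨i₁, ⟨M₁⟩⟩ := exists_model hc sT'
  obtain ⟨i₂, ⟨M₂⟩⟩ := exists_model hc sX
  let M := M₁.shift (IsCofiltered.minToLeft i₁ i₂)
  let N := M₂.shift (IsCofiltered.minToRight i₁ i₂)
  haveI := M.compactSpace
  haveI := M.quasiSeparatedSpace
  haveI := N.compactSpace
  haveI := N.quasiSeparatedSpace
  obtain ⟨j, φ, fj, sXj, sTj, h1, h2, h3, h4, h5, h6⟩ :=
    S9218.result _ c hc (IsCofiltered.min i₁ i₂) N.p M.p N.g sX N.hpb M.g sT' M.hpb f rfl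
  have hT : IsPullback sTj sT' (pullback.snd M.p _) (c.π.app j) := by
    refine IsPullback.of_right (h₁₂ := pullback.fst M.p _) (h₂₂ := ((subringFunctor k).op ⋙ Scheme.Spec).map φ)
      (v₁₃ := M.p) ?_ h5 (IsPullback.of_hasPullback _ _)
    rw [h4, c.w]
    exact M.hpb
  have hX : IsPullback sXj sX (pullback.snd N.p _) (c.π.app j) := by
    refine IsPullback.of_right (h₁₂ := pullback.fst N.p _) (h₂₂ := ((subringFunctor k).op ⋙ Scheme.Spec).map φ)
      (v₁₃ := N.p) ?_ h3 (IsPullback.of_hasPullback _ _)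
    rw [h2, c.w]
    exact N.hpb
  have hsq : IsPullback sXj f fj sTj :=
    IsPullback.of_bot (v₂₁ := sT') (v₂₂ := pullback.snd M.p _) (by rw [h1]; exact hX) h6 hT
  let R := Algebra.adjoin ℤ ((unop j : Finset k) : Set k)
  haveI : Algebra.FiniteType ℤ R := R.fg_iff_finiteType.1 ⟨unop j, rfl⟩
  haveI : Countable R := Cardinal.mk_le_aleph0_iff.1 (by
    obtain ⟨n, ψ, hψ⟩ := Algebra.FiniteType.iff_quotient_mvPolynomial''.1 ‹Algebra.FiniteType ℤ R›
    haveI : Countable (MvPolynomial (Fin n) ℤ) :=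
      Cardinal.mk_le_aleph0_iff.1 (MvPolynomial.cardinalMk_le_max_lift.trans (by simp [mk_le_aleph0]))
    haveI := hψ.countable
    exact mk_le_aleph0)
  haveI : IsNoetherianRing R := Algebra.FiniteType.isNoetherianRing ℤ R
  let p : pullback M.p (((subringFunctor k).op ⋙ Scheme.Spec).map φ) ⟶ Spec (CommRingCat.of R) := pullback.snd _ _
  haveI : LocallyOfFiniteType p :=
    inferInstanceAs (LocallyOfFiniteType (pullback.snd M.p (((subringFunctor k).op ⋙ Scheme.Spec).map φ)))
  haveI : QuasiCompact p :=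
    inferInstanceAs (QuasiCompact (pullback.snd M.p (((subringFunctor k).op ⋙ Scheme.Spec).map φ)))
  exact ⟨_, _, fj, sXj, sTj, hsq, countable_points p, countable_residueField p⟩

/-- Two algebraically closed points over the same point of a countable scheme are isomorphic. -/
theorem exists_iso_spec {S : Scheme.{u}} (s : S) [Countable (S.residueField s)] {K L : Type u} [Field K] [Field L]
    [IsAlgClosed K] [IsAlgClosed L] (hK : ℵ₀ < #K) (h : #K = #L)
    (a : Spec (CommRingCat.of K) ⟶ S) (b : Spec (CommRingCat.of L) ⟶ S)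
    (ha : a (IsLocalRing.closedPoint K) = s) (hb : b (IsLocalRing.closedPoint L) = s) :
    ∃ e : Spec (CommRingCat.of L) ≅ Spec (CommRingCat.of K), e.hom ≫ a = b := by
  have fact : ∀ {M : Type u} [Field M] (m : Spec (CommRingCat.of M) ⟶ S) (hm : m (IsLocalRing.closedPoint M) = s),
      ∃ ψ : S.residueField s ⟶ CommRingCat.of M, Spec.map ψ ≫ S.fromSpecResidueField s = m := by
    intro M _ m hm
    subst hm
    exact ⟨_, Scheme.descResidueField_stalkClosedPointTo_fromSpecResidueField M S m⟩
  obtain ⟨α, hα⟩ := fact a ha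
  obtain ⟨β, hβ⟩ := fact b hb
  obtain ⟨e, he⟩ := exists_ringEquiv_comp α.hom β.hom hK h
  refine ⟨Scheme.Spec.mapIso e.toCommRingCatIso.op, ?_⟩
  rw [← hα, ← hβ, Scheme.Spec.mapIso_hom]
  show Spec.map _ ≫ Spec.map α ≫ _ = _
  rw [← Spec.map_comp_assoc]
  congr 2
  ext x
  exact RingHom.congr_fun he x

end Groth.Agent.H7GeomGen
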